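import Cfsg.Agent.Chev.Classical.Rep
import Cfsg.Prelude.Def_ChevG2

/-!
# The representation of the Chevalley group of type G2 by automorphisms of the octonions

The root elements are the exponentials of the derivations of Zorn's algebra, the torus being
diagonal.
-/

set_option autoImplicit false

namespace Cfsg.Agent.G2Spec

open Cfsg.Lie Cfsg.Agent.Chev.Classical Matrix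

/-- The root elements on the octonions and the norm. -/
def repO : RepData 8 where
  rows :=
  [
    [⟨1, 0, 3, 2, 1⟩, ⟨1, 0, 5, 6, -1⟩],
    [⟨1, 0, 3, 1, -1⟩, ⟨1, 0, 4, 6, 1⟩],
    [⟨1, 0, 0, 6, 1⟩, ⟨1, 0, 3, 0, -1⟩, ⟨2, 0, 3, 6, -1⟩, ⟨1, 0, 3, 7, 1⟩, ⟨1, 0, 4, 2, 1⟩, ⟨1, 0, 5, 1, -1⟩, ⟨1, 0, 7, 6, -1⟩],
    [⟨1, 0, 0, 2, -1⟩, ⟨1, 0, 1, 6, 1⟩, ⟨1, 0, 3, 4, -1⟩, ⟨1, 0, 5, 0, 1⟩, ⟨2, 0, 5, 2, -1⟩, ⟨1, 0, 5, 7, -1⟩, ⟨1, 0, 7, 2, 1⟩],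
    [⟨1, 0, 0, 1, 1⟩, ⟨1, 0, 2, 6, 1⟩, ⟨1, 0, 3, 5, -1⟩, ⟨1, 0, 4, 0, -1⟩, ⟨2, 0, 4, 1, -1⟩, ⟨1, 0, 4, 7, 1⟩, ⟨1, 0, 7, 1, -1⟩],
    [⟨1, 0, 1, 2, -1⟩, ⟨1, 0, 5, 4, 1⟩],
    [⟨1, 0, 2, 1, -1⟩, ⟨1, 0, 4, 5, 1⟩],
    [⟨1, 0, 0, 4, -1⟩, ⟨1, 0, 1, 0, 1⟩, ⟨2, 0, 1, 4, -1⟩, ⟨1, 0, 1, 7, -1⟩, ⟨1, 0, 5, 3, -1⟩, ⟨1, 0, 6, 2, 1⟩, ⟨1, 0, 7, 4, 1⟩],
    [⟨1, 0, 0, 5, 1⟩, ⟨1, 0, 2, 0, -1⟩, ⟨2, 0, 2, 5, -1⟩, ⟨1, 0, 2, 7, 1⟩, ⟨1, 0, 4, 3, -1⟩, ⟨1, 0, 6, 1, 1⟩, ⟨1, 0, 7, 5, -1⟩],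
    [⟨1, 0, 0, 3, -1⟩, ⟨1, 0, 1, 5, -1⟩, ⟨1, 0, 2, 4, 1⟩, ⟨1, 0, 6, 0, 1⟩, ⟨2, 0, 6, 3, -1⟩, ⟨1, 0, 6, 7, -1⟩, ⟨1, 0, 7, 3, 1⟩],
    [⟨1, 0, 1, 3, -1⟩, ⟨1, 0, 6, 4, 1⟩],
    [⟨1, 0, 2, 3, 1⟩, ⟨1, 0, 6, 5, -1⟩]]
  form :=
    [⟨0, 0, 0, 7, 1⟩, ⟨0, 0, 1, 4, -1⟩, ⟨0, 0, 2, 5, -1⟩, ⟨0, 0, 3, 6, -1⟩]

/-- The structure matrices of the product. -/
def prodTab : List (List (Mono 8)) :=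
  [
    [⟨0, 0, 0, 0, 1⟩, ⟨0, 0, 1, 4, 1⟩, ⟨0, 0, 2, 5, 1⟩, ⟨0, 0, 3, 6, 1⟩],
    [⟨0, 0, 0, 1, 1⟩, ⟨0, 0, 1, 7, 1⟩, ⟨0, 0, 5, 6, -1⟩, ⟨0, 0, 6, 5, 1⟩],
    [⟨0, 0, 0, 2, 1⟩, ⟨0, 0, 2, 7, 1⟩, ⟨0, 0, 4, 6, 1⟩, ⟨0, 0, 6, 4, -1⟩],
    [⟨0, 0, 0, 3, 1⟩, ⟨0, 0, 3, 7, 1⟩, ⟨0, 0, 4, 5, -1⟩, ⟨0, 0, 5, 4, 1⟩],
    [⟨0, 0, 2, 3, 1⟩, ⟨0, 0, 3, 2, -1⟩, ⟨0, 0, 4, 0, 1⟩, ⟨0, 0, 7, 4, 1⟩],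
    [⟨0, 0, 1, 3, -1⟩, ⟨0, 0, 3, 1, 1⟩, ⟨0, 0, 5, 0, 1⟩, ⟨0, 0, 7, 5, 1⟩],
    [⟨0, 0, 1, 2, 1⟩, ⟨0, 0, 2, 1, -1⟩, ⟨0, 0, 6, 0, 1⟩, ⟨0, 0, 7, 6, 1⟩],
    [⟨0, 0, 4, 1, 1⟩, ⟨0, 0, 5, 2, 1⟩, ⟨0, 0, 6, 3, 1⟩, ⟨0, 0, 7, 7, 1⟩]]

/-- The root elements respect the product. -/
def prodOK : Bool :=
  (List.range 12).all fun r => (List.finRange 8).all fun k =>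
    let L := mone 8 ++ rootT repO r
    isZero (mmul (mmul (mtr L) (prodTab.getD k.val [])) L ++
      mneg (L.flatMap fun m => if m.a = k then
        (prodTab.getD m.b.val []).map fun e => ⟨m.i, m.j, e.a, e.b, m.c * e.c⟩ else []))

set_option maxHeartbeats 0 in
set_option maxRecDepth 100000 in
theorem repO_ok : repOK chevG2 repO = true := by decide +kernel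

set_option maxHeartbeats 0 in
set_option maxRecDepth 100000 in
theorem prodOK_true : prodOK = true := by decide +kernel

end Cfsg.Agent.G2Spec
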